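import Mathlib
import Cfsg.Agent.Lib.Helper56.TC
import Cfsg.Agent.Lib.Helper56.TCFast
import Cfsg.Agent.Lib.Helper56.Fi22U6.DA0
set_option autoImplicit false
set_option maxRecDepth 1000000

namespace Cfsg.Agent.Lib.Helper56.Fi22U6

open Cfsg.Agent.Lib.Helper56.TC Cfsg.Agent.Lib.Helper56.TC.Tabs

noncomputable def nA : List (List ℕ) := [nA0]

noncomputable def fA : List (List ℕ) := [fA0]

/-- The certificate data. -/
noncomputable def T : Tabs where
  K := 7
  N := 288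
  N' := 288
  INF := 1443
  fuel := 1
  inv := fun l => l
  tg := slotFld2 nA 66 246 113078212145816597093331040047546785012958969400039613319782796882727665663 7 31 29 511 (fun _ => 0)
  rk := slotFld2 nA 66 246 113078212145816597093331040047546785012958969400039613319782796882727665663 7 31 38 2047
    (fun x => Nat.rec (motive := fun _ => ℕ) 0 (fun _ _ => 1443) x)
  jc := slotFld2 nA 66 246 113078212145816597093331040047546785012958969400039613319782796882727665663 7 31 49 2047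
    (fun x => Nat.rec (motive := fun _ => ℕ) 3 (fun _ _ => 0) x)
  dd := fldA nA 66 246 113078212145816597093331040047546785012958969400039613319782796882727665663 0 31
  dl := fldA nA 66 246 113078212145816597093331040047546785012958969400039613319782796882727665663 5 7
  qj := fldA nA 66 246 113078212145816597093331040047546785012958969400039613319782796882727665663 8 1
  mp := fldA nA 66 246 113078212145816597093331040047546785012958969400039613319782796882727665663 9 511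
  mt := fldA nA 66 246 113078212145816597093331040047546785012958969400039613319782796882727665663 18 2047
  tb := tbFld2 fA 182 90 1237940039285380274899124223 9 27 511
  rels1 := [[0, 1, 0, 1, 0, 1],
    [0, 2, 0, 2],
    [0, 3, 0, 3],
    [0, 4, 0, 4],
    [0, 5, 0, 5],
    [0, 6, 0, 6],
    [1, 2, 1, 2, 1, 2],
    [1, 3, 1, 3],
    [1, 4, 1, 4],
    [1, 5, 1, 5],
    [1, 6, 1, 6],
    [2, 3, 2, 3, 2, 3],
    [2, 4, 2, 4],
    [2, 5, 2, 5],
    [2, 6, 2, 6, 2, 6],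
    [3, 4, 3, 4, 3, 4],
    [3, 5, 3, 5],
    [3, 6, 3, 6],
    [4, 5, 4, 5, 4, 5],
    [4, 6, 4, 6],
    [5, 6, 5, 6],
    [0, 1, 2, 3, 4, 5, 6, 0, 1, 2, 3, 4, 5, 6, 0, 1, 2, 3, 4, 5, 6, 0, 1, 2, 3, 4, 5, 6, 0, 1, 2, 3, 4, 5, 6, 0, 1, 2, 3, 4, 5, 6, 0, 1, 2, 3, 4, 5, 6, 0, 1, 2, 3, 4, 5, 6, 0, 1, 2, 3, 4, 5, 6]]
  subs := [[0],
    [1],
    [2],
    [3],
    [4],
    [5]]
  rx := [[0, 1, 0, 1, 0, 1],
    [0, 2, 0, 2],
    [0, 3, 0, 3],
    [0, 4, 0, 4],
    [0, 5, 0, 5],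
    [0, 6, 0, 6],
    [1, 2, 1, 2, 1, 2],
    [1, 3, 1, 3],
    [1, 4, 1, 4],
    [1, 5, 1, 5],
    [1, 6, 1, 6],
    [2, 3, 2, 3, 2, 3],
    [2, 4, 2, 4],
    [2, 5, 2, 5],
    [2, 6, 2, 6, 2, 6],
    [3, 4, 3, 4, 3, 4],
    [3, 5, 3, 5],
    [3, 6, 3, 6],
    [4, 5, 4, 5, 4, 5],
    [4, 6, 4, 6],
    [5, 6, 5, 6],
    [0, 1, 2, 3, 4, 5, 6, 0, 1, 2, 3, 4, 5, 6, 0, 1, 2, 3, 4, 5, 6, 0, 1, 2, 3, 4, 5, 6, 0, 1, 2, 3, 4, 5, 6, 0, 1, 2, 3, 4, 5, 6, 0, 1, 2, 3, 4, 5, 6, 0, 1, 2, 3, 4, 5, 6, 0, 1, 2, 3, 4, 5, 6],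
    [0, 7],
    [1, 8],
    [2, 9],
    [3, 10],
    [4, 11],
    [5, 12]]
  RB := 64
  tpl := fldA fA 182 90 1237940039285380274899124223 0 7
  tdep := fldA fA 182 90 1237940039285380274899124223 3 31
  ol := fldA fA 182 90 1237940039285380274899124223 8 7
  oc := fldA fA 182 90 1237940039285380274899124223 11 7
  op := fldA fA 182 90 1237940039285380274899124223 14 511
  odep := fldA fA 182 90 1237940039285380274899124223 23 15
  orep := fun c => Tabs.nth 0 [0, 1, 15, 55, 143] c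

end Cfsg.Agent.Lib.Helper56.Fi22U6
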